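import Mathlib
import Cfsg.Prelude.Def_Characters
import Cfsg.Agent.CharLib.Orth
import Cfsg.Agent.CharLib.Degree
import Cfsg.Agent.Lib.Helper10.Virtual
import Cfsg.Agent.H25.Codeg

set_option autoImplicit false

namespace Cfsg.Agent.CharLib.H2

open Module Representation Cfsg Cfsg.Agent.CharLib
open scoped ComplexConjugate

universe u v

section

variable {G : Type u} {H : Type v} [Group G] [Fintype G] [Group H] [Fintype H]

/-- Let `π : G → H` be a map such that `θ ∘ π` is a generalized character for every character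
`θ` of `H`, and such that every class of `H` meets the image of `π`.  Then `π` preserves averages
of class functions. -/
theorem avg_comp_eq_avg (π : G → H)
    (h1 : ∀ θ : H → ℂ, IsCharacter H θ → IsGeneralizedCharacter G (fun x => θ (π x)))
    (h2 : ∀ h : H, ∃ x : G, IsConj h (π x))
    {θ : H → ℂ} (hθ : IsClassFunction H θ) :
    (Nat.card G : ℂ)⁻¹ * ∑ x : G, θ (π x) = (Nat.card H : ℂ)⁻¹ * ∑ h : H, θ h := by
  classical
  have hG0 : (Nat.card G : ℂ) ≠ 0 := card_ne_zero_complex
  have hH0 : (Nat.card H : ℂ) ≠ 0 := card_ne_zero_complex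
  have ha : ∀ φ : IrrCharacter H, ∃ a : ℤ,
      (Nat.card G : ℂ)⁻¹ * ∑ x : G, (φ : H → ℂ) (π x) = a := by
    intro φ
    obtain ⟨m, hm⟩ := isGeneralizedCharacter_iff.mp (h1 φ (isCharacter_of_irr φ.2))
    refine ⟨m ⟨fun _ => 1, isIrrCharacter_one⟩, ?_⟩
    have := classInner_sum_smul_irr (fun χ => (m χ : ℂ)) ⟨fun _ => 1, isIrrCharacter_one⟩
    rw [← hm, classInner] at this
    simpa using this
  choose a ha using ha
  set w : H → ℂ := fun h => ∑ φ : IrrCharacter H, (a φ : ℂ) * conj ((φ : H → ℂ) h) with hw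
  have hwcf : IsClassFunction H w := by
    intro g h
    simp only [hw]
    refine Finset.sum_congr rfl fun φ _ => ?_
    rw [isClassFunction_of_irr φ.2 g h]
  have hL : ∀ θ : H → ℂ, IsClassFunction H θ →
      (Nat.card G : ℂ)⁻¹ * ∑ x : G, θ (π x) = (Nat.card H : ℂ)⁻¹ * ∑ h : H, θ h * w h := by
    intro θ hθ
    have e1 : ∀ y : H, θ y = ∑ φ : IrrCharacter H, classInner θ φ * (φ : H → ℂ) y := by
      intro y
      have := congrFun (classFunction_eq_sum hθ) y
      simpa using this
    have l1 : (Nat.card G : ℂ)⁻¹ * ∑ x : G, θ (π x) =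
        ∑ φ : IrrCharacter H, classInner θ φ * (a φ : ℂ) := by
      simp only [fun x => e1 (π x)]
      rw [Finset.sum_comm, Finset.mul_sum]
      refine Finset.sum_congr rfl fun φ _ => ?_
      rw [← ha φ, ← Finset.mul_sum]
      ring
    have l2 : (Nat.card H : ℂ)⁻¹ * ∑ h : H, θ h * w h =
        ∑ φ : IrrCharacter H, classInner θ φ * (a φ : ℂ) := by
      simp only [hw, Finset.mul_sum]
      rw [Finset.sum_comm]
      refine Finset.sum_congr rfl fun φ _ => ?_
      rw [classInner, Finset.mul_sum, Finset.sum_mul]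
      refine Finset.sum_congr rfl fun h _ => ?_
      ring
    rw [l1, l2]
  have hwint : ∀ h : H, ∃ k : ℕ, 1 ≤ k ∧ w h = k := by
    intro h
    have e := hL _ (isClassFunction_indicator h)
    rw [sum_indicator_mul h hwcf] at e
    have e2 : ∑ x : G, (if IsConj h (π x) then (1 : ℂ) else 0) =
        ((Finset.univ.filter (fun x : G => IsConj h (π x))).card : ℂ) := by
      rw [Finset.sum_ite, Finset.sum_const_zero, add_zero, Finset.sum_const, nsmul_eq_mul, mul_one]
    rw [e2] at e
    set N := (Finset.univ.filter (fun x : G => IsConj h (π x))).card with hN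
    set c := (Subgroup.centralizer {h}).index with hc
    have hN0 : 0 < N := by
      obtain ⟨x, hx⟩ := h2 h
      exact Finset.card_pos.mpr ⟨x, Finset.mem_filter.mpr ⟨Finset.mem_univ _, hx⟩⟩
    have hc0 : (c : ℂ) ≠ 0 := index_centralizer_ne_zero h
    have hc0' : c ≠ 0 := by exact_mod_cast hc0
    have e3 : w h = ((Nat.card H * N : ℕ) : ℂ) / ((Nat.card G * c : ℕ) : ℂ) := by
      push_cast
      field_simp
      field_simp at e
      linear_combination -e
    have hint : IsIntegral ℤ (w h) := by
      simp only [hw]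
      apply IsIntegral.sum
      intro φ _
      apply IsIntegral.mul isIntegral_algebraMap
      exact isCharacter_isIntegral (isCharacter_conj (isCharacter_of_irr φ.2)) h
    rw [e3] at hint
    have hb : Nat.card G * c ≠ 0 := Nat.mul_ne_zero Nat.card_pos.ne' hc0'
    obtain ⟨k, hk⟩ := dvd_of_isIntegral_div hb hint
    refine ⟨k, ?_, ?_⟩
    · rcases Nat.eq_zero_or_pos k with rfl | hk0
      · rw [mul_zero] at hk
        exact absurd hk (Nat.mul_ne_zero Nat.card_pos.ne' hN0.ne')
      · exact hk0
    · rw [e3, hk]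
      have hb' : ((Nat.card G * c : ℕ) : ℂ) ≠ 0 := by exact_mod_cast hb
      push_cast at hb' ⊢
      field_simp
  choose k hk1 hk using hwint
  have hone : IsClassFunction H (fun _ => (1 : ℂ)) := fun _ _ => rfl
  have e := hL _ hone
  simp only [one_mul, Finset.sum_const, Finset.card_univ, nsmul_eq_mul, mul_one] at e
  rw [← Nat.card_eq_fintype_card, inv_mul_cancel₀ hG0] at e
  have e4 : ∑ h : H, k h = Nat.card H := by
    have : (Nat.card H : ℂ) = ∑ h : H, (k h : ℂ) := by
      simp only [hk] at e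
      field_simp at e
      exact e
    exact_mod_cast this.symm
  have e5 : ∀ h : H, k h = 1 := by
    by_contra hcon
    push Not at hcon
    obtain ⟨h₀, hh₀⟩ := hcon
    have h3 : ∑ h : H, 1 < ∑ h : H, k h := by
      apply Finset.sum_lt_sum (fun h _ => hk1 h)
      exact ⟨h₀, Finset.mem_univ _, lt_of_le_of_ne (hk1 h₀) (Ne.symm hh₀)⟩
    rw [e4, Finset.sum_const, Finset.card_univ, smul_eq_mul, mul_one,
      ← Nat.card_eq_fintype_card] at h3
    exact lt_irrefl _ h3
  rw [hL θ hθ]
  congr 1
  refine Finset.sum_congr rfl fun h _ => ?_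
  rw [hk, e5]
  simp

/-- In the situation of `avg_comp_eq_avg`, `θ ∘ π` is irreducible for irreducible `θ`. -/
theorem isIrrCharacter_comp_of_avg (π : G → H)
    (h1 : ∀ θ : H → ℂ, IsCharacter H θ → IsGeneralizedCharacter G (fun x => θ (π x)))
    (h2 : ∀ h : H, ∃ x : G, IsConj h (π x)) (h3 : π 1 = 1) (θ : IrrCharacter H) :
    IsIrrCharacter G (fun x => (θ : H → ℂ) (π x)) := by
  have gen := h1 θ (isCharacter_of_irr θ.2)
  have hcf : IsClassFunction H (fun h => (θ : H → ℂ) h * conj ((θ : H → ℂ) h)) := by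
    intro g h
    simp only [isClassFunction_of_irr θ.2 g h]
  have norm : classInner (fun x => (θ : H → ℂ) (π x)) (fun x => (θ : H → ℂ) (π x)) = 1 := by
    rw [classInner, avg_comp_eq_avg π h1 h2 hcf]
    exact classInner_irr_self θ.2
  rcases Cfsg.Agent.Lib.Helper10.isSignedIrr_of_norm_one gen norm with h | h
  · exact h
  · exfalso
    obtain ⟨n, hn, hn'⟩ := irr_apply_one_nat ⟨_, h⟩
    obtain ⟨n', hn0, hn1⟩ := irr_apply_one_nat θ
    simp only [Pi.neg_apply, h3, hn1] at hn'
    have : ((n + n' : ℕ) : ℂ) = 0 := by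
      push_cast
      rw [← hn']
      ring
    have h5 : n + n' = 0 := by exact_mod_cast this
    omega

/-- The "kernel" of `π` is a normal subgroup of order `|G| / |H|`. -/
theorem exists_normal_of_comp (π : G → H)
    (h1 : ∀ θ : H → ℂ, IsCharacter H θ → IsGeneralizedCharacter G (fun x => θ (π x)))
    (h2 : ∀ h : H, ∃ x : G, IsConj h (π x)) (h3 : π 1 = 1) :
    ∃ K : Subgroup G, K.Normal ∧ (∀ x, x ∈ K ↔ π x = 1) ∧
      Nat.card K * Nat.card H = Nat.card G := by
  classical
  have irr := isIrrCharacter_comp_of_avg π h1 h2 h3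
  set K : Subgroup G := ⨅ θ : IrrCharacter H, Cfsg.Agent.H25.kerSub ⟨_, irr θ⟩ with hK
  have hmem : ∀ x, x ∈ K ↔ π x = 1 := by
    intro x
    rw [hK, Subgroup.mem_iInf]
    simp only [Cfsg.Agent.H25.mem_kerSub, h3]
    constructor
    · intro h
      by_contra hne
      have e := sum_irr_one_mul (π x)
      rw [if_neg hne] at e
      have e2 : ∑ χ : IrrCharacter H, (χ : H → ℂ) 1 * (χ : H → ℂ) (π x) = (Nat.card H : ℂ) := by
        rw [← sum_irr_sq]
        refine Finset.sum_congr rfl fun χ _ => ?_
        rw [h χ, sq]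
      rw [e] at e2
      exact card_ne_zero_complex e2.symm
    · intro h θ
      rw [h]
  refine ⟨K, Subgroup.normal_iInf_normal (fun θ => inferInstance), hmem, ?_⟩
  have hcf : IsClassFunction H (fun y => if y = 1 then (1 : ℂ) else 0) := by
    intro g h
    simp only [conj_eq_one_iff]
  have e := avg_comp_eq_avg π h1 h2 hcf
  rw [Finset.sum_ite_eq' Finset.univ (1 : H) (fun _ => (1 : ℂ)), if_pos (Finset.mem_univ _),
    Finset.sum_ite, Finset.sum_const_zero, add_zero, Finset.sum_const, nsmul_eq_mul, mul_one,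
    mul_one] at e
  have hcard : Nat.card K = (Finset.univ.filter (fun x : G => π x = 1)).card := by
    rw [Nat.card_eq_fintype_card, Fintype.card_subtype]
    congr 1
    ext x
    simp only [Finset.mem_filter, Finset.mem_univ, true_and]
    exact hmem x
  rw [← hcard] at e
  have hG0 : (Nat.card G : ℂ) ≠ 0 := card_ne_zero_complex
  have hH0 : (Nat.card H : ℂ) ≠ 0 := card_ne_zero_complex
  field_simp at e
  exact_mod_cast e

end

end Cfsg.Agent.CharLib.H2
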