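import Mathlib
import Cfsg.Prelude.Def_Characters
import Cfsg.Agent.CharLib.BrauerInd

set_option autoImplicit false

namespace Cfsg.Agent.CharLib.H2

open Module Representation Cfsg Cfsg.Agent.CharLib
open scoped ComplexConjugate

universe u v

theorem isNilpotent_of_isElementary {p : ℕ} (hp : p.Prime) {E : Type u} [Group E] [Finite E]
    (h : IsElementary p E) : Group.IsNilpotent E := by
  obtain ⟨x, hx, hcop, k, hk⟩ := h
  haveI : Fact p.Prime := ⟨hp⟩
  have hle : Subgroup.zpowers x ≤ Subgroup.center E := by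
    rw [Subgroup.zpowers_le]; exact hx
  haveI hn : (Subgroup.zpowers x).Normal := normal_of_le_center' hle
  haveI : Group.IsNilpotent (E ⧸ Subgroup.zpowers x) := by
    apply IsPGroup.isNilpotent (p := p)
    exact IsPGroup.of_card (n := k) hk
  apply Subgroup.isNilpotent_of_ker_le_center (QuotientGroup.mk' (Subgroup.zpowers x))
  rw [QuotientGroup.ker_mk']
  exact hle

theorem isElementary_subgroup {p : ℕ} (hp : p.Prime) {E : Type u} [Group E]
    (h : IsElementary p E) (H : Subgroup E) : IsElementary p H := by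
  obtain ⟨x, hx, hcop, k, hk⟩ := h
  have hle : Subgroup.zpowers x ≤ Subgroup.center E := by
    rw [Subgroup.zpowers_le]; exact hx
  haveI hn : (Subgroup.zpowers x).Normal := normal_of_le_center' hle
  let f : (Subgroup.zpowers x).subgroupOf H →* Subgroup.zpowers x :=
    (H.subtype.comp ((Subgroup.zpowers x).subgroupOf H).subtype).codRestrict _ (fun y => y.2)
  have hf : Function.Injective f := by
    intro a b hab
    apply Subtype.ext
    apply Subtype.ext
    exact congrArg (fun z : Subgroup.zpowers x => (z : E)) hab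
  have hcyc : IsCyclic ((Subgroup.zpowers x).subgroupOf H) := isCyclic_of_injective f hf
  obtain ⟨y, hy⟩ := hcyc.exists_generator
  have hyx : ((y : H) : E) ∈ Subgroup.zpowers x := y.2
  refine ⟨y, ?_, ?_, ?_⟩
  · rw [Subgroup.mem_center_iff]
    intro g
    apply Subtype.ext
    exact Subgroup.mem_center_iff.mp (hle hyx) g
  · rw [← Subgroup.orderOf_coe]
    exact Nat.Coprime.coprime_dvd_left (orderOf_dvd_of_mem_zpowers hyx) hcop
  · have h1 : Subgroup.zpowers (y : H) = (Subgroup.zpowers x).subgroupOf H := by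
      have h2 : Subgroup.zpowers y = ⊤ := (Subgroup.eq_top_iff' _).mpr hy
      have h3 := MonoidHom.map_zpowers ((Subgroup.zpowers x).subgroupOf H).subtype y
      rw [h2, ← MonoidHom.range_eq_map, Subgroup.range_subtype] at h3
      exact h3.symm
    rw [h1]
    have h4 : ((Subgroup.zpowers x).subgroupOf H).index ∣ p ^ k :=
      hk ▸ Subgroup.relIndex_dvd_index_of_normal (Subgroup.zpowers x) H
    obtain ⟨j, -, hj⟩ := (Nat.dvd_prime_pow hp).mp h4
    exact ⟨j, hj⟩

section

variable {G : Type u} [Group G] [Fintype G]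

/-- ℤ-span of the functions induced from linear characters of elementary subgroups -/
def LinSpan (G : Type u) [Group G] [Fintype G] : AddSubgroup (G → ℂ) :=
  AddSubgroup.closure {f | ∃ (E : Subgroup G) (lam : E →* ℂˣ), IsElem E ∧
    f = indFun E (fun e => (lam e : ℂ))}

theorem IndSpan_le_LinSpan : IndSpan IsElem G ≤ LinSpan G := by
  unfold IndSpan
  rw [AddSubgroup.closure_le]
  rintro f ⟨E, φ, ⟨p, hp, hE⟩, hφ, rfl⟩
  letI : Fintype E := Fintype.ofFinite _
  obtain ⟨m, hm, -⟩ := exists_mult hφ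
  rw [hm, indFun_finset_sum]
  apply AddSubgroup.sum_mem
  intro ψ _
  rw [indFun_smul, Nat.cast_smul_eq_nsmul ℂ]
  apply AddSubgroup.nsmul_mem
  haveI := isNilpotent_of_isElementary hp hE
  obtain ⟨H, lam, hlam⟩ := nilpotent_monomial (ψ : E → ℂ) ψ.2
  rw [hlam, indFun_indFun]
  apply AddSubgroup.subset_closure
  refine ⟨H.map E.subtype,
    lam.comp (H.equivMapOfInjective E.subtype E.subtype_injective).symm.toMonoidHom,
    ⟨p, hp, isElementary_of_mulEquiv _ _ (H.equivMapOfInjective E.subtype E.subtype_injective)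
      (isElementary_subgroup hp hE H)⟩, rfl⟩

theorem LinSpan_exists_list {f : G → ℂ} (hf : f ∈ LinSpan G) :
    ∃ l : List ((E : Subgroup G) × ((E →* ℂˣ) × ℤ)),
      (∀ t ∈ l, ∃ p : ℕ, p.Prime ∧ IsElementary p t.1) ∧
      f = (l.map fun t => (t.2.2 : ℂ) • indFun t.1 (fun e => (t.2.1 e : ℂ))).sum := by
  unfold LinSpan at hf
  induction hf using AddSubgroup.closure_induction with
  | mem x hx =>
    obtain ⟨E, φ, hE, rfl⟩ := hx
    refine ⟨[⟨E, φ, 1⟩], ?_, ?_⟩
    · intro t ht
      rw [List.mem_singleton] at ht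
      subst ht
      exact hE
    · simp
  | zero => exact ⟨[], by simp, by simp⟩
  | add x y _ _ hx hy =>
    obtain ⟨l₁, h₁, rfl⟩ := hx
    obtain ⟨l₂, h₂, rfl⟩ := hy
    refine ⟨l₁ ++ l₂, ?_, ?_⟩
    · intro t ht
      rcases List.mem_append.mp ht with h | h
      · exact h₁ t h
      · exact h₂ t h
    · rw [List.map_append, List.sum_append]
  | neg x _ hx =>
    obtain ⟨l, h, rfl⟩ := hx
    refine ⟨l.map (fun t => ⟨t.1, t.2.1, -t.2.2⟩), ?_, ?_⟩
    · intro t ht
      obtain ⟨s, hs, rfl⟩ := List.mem_map.mp ht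
      exact h s hs
    · rw [← list_sum_map_neg', List.map_map]
      congr 1
      apply List.map_congr_left
      intro t _
      simp

/-- Brauer's induction theorem. -/
theorem brauer_induction {χ : G → ℂ} (hχ : IsCharacter G χ) : χ ∈ LinSpan G :=
  IndSpan_le_LinSpan (char_mem_IndSpan one_mem_IndSpan_isElem hχ)

end

end Cfsg.Agent.CharLib.H2
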