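import Mathlib
import Cfsg.Prelude.Def_Characters

set_option autoImplicit false

namespace Cfsg.Agent.CharLib.H2

open Cfsg

universe u

/-- If the index of the centre divides `e`, then `x ↦ x ^ e` is a homomorphism into the centre. -/
theorem exists_central_zpow_hom {E : Type u} [Group E] [Finite E] (e : ℤ)
    (h : ((Subgroup.center E).index : ℤ) ∣ e) :
    ∃ f : E →* E, (∀ x, f x = x ^ e) ∧ ∀ x, f x ∈ Subgroup.center E := by
  obtain ⟨t, rfl⟩ := h
  have hmul : ∀ a b : E, (a * b) ^ (Subgroup.center E).index =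
      a ^ (Subgroup.center E).index * b ^ (Subgroup.center E).index := by
    intro a b
    exact congrArg (fun c : Subgroup.center E => (c : E))
      (map_mul (MonoidHom.transferCenterPow E) a b)
  have hc : ∀ a : E, a ^ (Subgroup.center E).index ∈ Subgroup.center E :=
    fun a => (MonoidHom.transferCenterPow E a).2
  refine ⟨MonoidHom.mk' (fun x => (x ^ (Subgroup.center E).index) ^ t) ?_, ?_, ?_⟩
  · intro a b
    rw [hmul]
    apply Commute.mul_zpow
    exact (Subgroup.mem_center_iff.mp (hc a) _).symm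
  · intro x
    simp only [MonoidHom.mk'_apply]
    rw [zpow_mul, zpow_natCast]
  · intro x
    exact Subgroup.zpow_mem _ (hc x) t

/-- On an elementary group whose order divides `m * n` (`m`, `n` coprime) the power map
`x ↦ x ^ e` with `e ≡ 0 (mod n)`, `e ≡ 1 (mod m)` is a homomorphism. -/
theorem exists_zpow_hom_of_isElementary {r : ℕ} (hr : r.Prime) {E : Type u} [Group E] [Finite E]
    (hE : IsElementary r E) (m n : ℕ) (hcop : Nat.Coprime m n) (hcard : Nat.card E ∣ m * n)
    (e : ℤ) (hn : (n : ℤ) ∣ e) (hm : (m : ℤ) ∣ 1 - e) :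
    ∃ f : E →* E, ∀ x, f x = x ^ e := by
  obtain ⟨x₀, hx₀, -, k, hk⟩ := hE
  have hle : Subgroup.zpowers x₀ ≤ Subgroup.center E := by
    rw [Subgroup.zpowers_le]; exact hx₀
  have h1 : (Subgroup.center E).index ∣ r ^ k := hk ▸ Subgroup.index_dvd_of_le hle
  obtain ⟨j, -, hj⟩ := (Nat.dvd_prime_pow hr).mp h1
  have h2 : r ^ j ∣ m * n := hj ▸ (Subgroup.index_dvd_card _).trans hcard
  by_cases hrm : r ∣ m
  · have hrn : ¬ r ∣ n := by
      intro h
      exact hr.one_lt.ne' (Nat.eq_one_of_dvd_coprimes hcop hrm h)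
    have h3 : r ^ j ∣ m := (Nat.Coprime.pow_left j ((Nat.Prime.coprime_iff_not_dvd hr).mpr hrn)).dvd_of_dvd_mul_right h2
    obtain ⟨g, hg, hgc⟩ := exists_central_zpow_hom (E := E) (1 - e)
      (by rw [hj]; exact (Int.natCast_dvd_natCast.mpr h3).trans hm)
    refine ⟨MonoidHom.mk' (fun x => x * (g x)⁻¹) ?_, ?_⟩
    · intro a b
      have hc := Subgroup.mem_center_iff.mp (Subgroup.inv_mem _ (hgc a)) b
      rw [map_mul, mul_inv_rev, mul_assoc a b, ← mul_assoc b, mul_assoc b, mul_assoc a,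
        ← mul_assoc (g a)⁻¹]
      rw [← hc]
      simp only [mul_assoc]
      have hc2 := Subgroup.mem_center_iff.mp (Subgroup.inv_mem _ (hgc a)) (g b)⁻¹
      rw [hc2]
    · intro x
      simp only [MonoidHom.mk'_apply]
      rw [hg, ← zpow_neg, ← zpow_one_add]
      congr 1
      ring
  · have h3 : r ^ j ∣ n := (Nat.Coprime.pow_left j ((Nat.Prime.coprime_iff_not_dvd hr).mpr hrm)).dvd_of_dvd_mul_left h2
    obtain ⟨g, hg, -⟩ := exists_central_zpow_hom (E := E) e
      (by rw [hj]; exact (Int.natCast_dvd_natCast.mpr h3).trans hn)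
    exact ⟨g, hg⟩

/-- existence of the exponent -/
theorem exists_crt_exponent (m n : ℕ) (hcop : Nat.Coprime m n) :
    ∃ e : ℤ, (n : ℤ) ∣ e ∧ (m : ℤ) ∣ 1 - e := by
  have h := Int.gcd_eq_gcd_ab m n
  rw [Int.gcd_natCast_natCast, hcop] at h
  refine ⟨n * Int.gcdB m n, Dvd.intro _ rfl, ⟨Int.gcdA m n, ?_⟩⟩
  push_cast at h
  linarith

end Cfsg.Agent.CharLib.H2
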