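import Mathlib
import Cfsg.Prelude.Def_Characters
import Cfsg.Agent.CharLib.Orth

set_option autoImplicit false

namespace Cfsg.Agent.CharLib.H2

open Module Representation
open scoped ComplexConjugate

universe u v w

section

variable {k G : Type*} [Field k] [Monoid G]

/-- product of two equivalences of representations -/
noncomputable def prodEquiv {V₁ V₂ W₁ W₂ : Type*} [AddCommGroup V₁] [Module k V₁]
    [AddCommGroup V₂] [Module k V₂] [AddCommGroup W₁] [Module k W₁] [AddCommGroup W₂] [Module k W₂]
    {ρ₁ : Representation k G V₁} {ρ₂ : Representation k G V₂} {σ₁ : Representation k G W₁}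
    {σ₂ : Representation k G W₂} (e₁ : ρ₁.Equiv σ₁) (e₂ : ρ₂.Equiv σ₂) :
    (ρ₁.prod ρ₂).Equiv (σ₁.prod σ₂) :=
  Representation.Equiv.mk (e₁.toLinearEquiv.prodCongr e₂.toLinearEquiv) (by
    intro g
    apply LinearMap.ext
    rintro ⟨a, b⟩
    have h1 : e₁.toLinearEquiv (ρ₁ g a) = σ₁ g (e₁.toLinearEquiv a) :=
      IntertwiningMap.isIntertwining ρ₁ σ₁ e₁.toIntertwiningMap g a
    have h2 : e₂.toLinearEquiv (ρ₂ g b) = σ₂ g (e₂.toLinearEquiv b) :=
      IntertwiningMap.isIntertwining ρ₂ σ₂ e₂.toIntertwiningMap g b
    show (e₁.toLinearEquiv (ρ₁ g a), e₂.toLinearEquiv (ρ₂ g b)) =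
      (σ₁ g (e₁.toLinearEquiv a), σ₂ g (e₂.toLinearEquiv b))
    rw [h1, h2])

end

variable {G : Type u} [Group G] [Finite G]

theorem nonempty_equiv_of_char_eq_aux (n : ℕ) :
    ∀ (V : Type v) [AddCommGroup V] [Module ℂ V] [FiniteDimensional ℂ V]
      (W : Type w) [AddCommGroup W] [Module ℂ W] [FiniteDimensional ℂ W]
      (ρ : Representation ℂ G V) (σ : Representation ℂ G W),
      finrank ℂ V = n → ρ.character = σ.character → Nonempty (ρ.Equiv σ) := by
  classical
  cases nonempty_fintype G
  induction n using Nat.strong_induction_on with
  | _ n ih =>
    intro V _ _ _ W _ _ _ ρ σ hn hchar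
    have hdim : finrank ℂ V = finrank ℂ W := by
      have h1 := congrFun hchar 1
      rw [Representation.char_one, Representation.char_one] at h1
      exact_mod_cast h1
    rcases subsingleton_or_nontrivial V with hV | hV
    · have hW : Subsingleton W := by
        have : finrank ℂ W = 0 := by rw [← hdim]; exact finrank_zero_of_subsingleton
        exact Module.finrank_zero_iff.mp this
      exact ⟨Representation.Equiv.mk (LinearEquiv.ofFinrankEq V W hdim) (by
        intro g; ext v; exact Subsingleton.elim _ _)⟩
    · obtain ⟨U, hU⟩ := exists_isAtom ρ
      have : NeZero (Nat.card G : ℂ) := ⟨by exact_mod_cast Nat.card_pos.ne'⟩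
      obtain ⟨U', hU'⟩ := exists_isCompl U
      have hUirr : U.toRepresentation.IsIrreducible := isIrreducible_of_isAtom hU
      have hρ := char_eq_add_of_isCompl hU'
      -- a nonzero intertwiner U → σ
      have h1 : classInner σ.character U.toRepresentation.character =
          finrank ℂ (IntertwiningMap U.toRepresentation σ) := classInner_char_eq_finrank _ _
      have h2 : classInner σ.character U.toRepresentation.character =
          1 + finrank ℂ (IntertwiningMap U.toRepresentation U'.toRepresentation) := by
        rw [← hchar, hρ, classInner_add_left, classInner_char_eq_finrank,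
          classInner_char_eq_finrank, IsIrreducible.finrank_intertwiningMap_self]
        simp
      have h3 : finrank ℂ (IntertwiningMap U.toRepresentation σ) ≠ 0 := by
        intro h0
        rw [h1, h0] at h2
        have : (0 : ℕ) = 1 + finrank ℂ (IntertwiningMap U.toRepresentation U'.toRepresentation) := by
          exact_mod_cast h2
        omega
      obtain ⟨f, hf⟩ : ∃ f : IntertwiningMap U.toRepresentation σ, f ≠ 0 := by
        by_contra hcon
        push Not at hcon
        apply h3
        have : Subsingleton (IntertwiningMap U.toRepresentation σ) :=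
          ⟨fun a b => by rw [hcon a, hcon b]⟩
        exact finrank_zero_of_subsingleton
      have hinj : Function.Injective f.toLinearMap :=
        (IsIrreducible.injective_or_eq_zero f).resolve_right hf
      let X : Subrepresentation σ := ⟨LinearMap.range f.toLinearMap, by
        rintro g _ ⟨x, rfl⟩
        exact ⟨U.toRepresentation g x, IntertwiningMap.isIntertwining _ _ f g x⟩⟩
      let e1 : U.toRepresentation.Equiv X.toRepresentation :=
        Representation.Equiv.mk (LinearEquiv.ofInjective f.toLinearMap hinj) (by
          intro g
          apply LinearMap.ext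
          intro x
          apply Subtype.ext
          exact IntertwiningMap.isIntertwining _ _ f g x)
      obtain ⟨X', hX'⟩ := exists_isCompl X
      have hσ := char_eq_add_of_isCompl hX'
      have hXU : X.toRepresentation.character = U.toRepresentation.character :=
        (Representation.char_iso e1).symm
      have hchar' : U'.toRepresentation.character = X'.toRepresentation.character := by
        have : U.toRepresentation.character + U'.toRepresentation.character =
            U.toRepresentation.character + X'.toRepresentation.character := by
          rw [← hρ, hchar, hσ, hXU]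
        exact add_left_cancel this
      have hlt : finrank ℂ U'.toSubmodule < n := by
        have h1 := Submodule.finrank_add_eq_of_isCompl (isCompl_toSubmodule hU')
        have h2 : 0 < finrank ℂ U.toSubmodule := finrank_pos_of_irr U.toRepresentation
        omega
      obtain ⟨e2⟩ := ih _ hlt U'.toSubmodule X'.toSubmodule U'.toRepresentation
        X'.toRepresentation rfl hchar'
      exact ⟨((equivProdOfIsCompl hU').symm.trans (prodEquiv e1 e2)).trans (equivProdOfIsCompl hX')⟩

/-- Representations with equal characters are equivalent. -/
theorem nonempty_equiv_of_char_eq {V : Type v} [AddCommGroup V] [Module ℂ V]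
    [FiniteDimensional ℂ V] {W : Type w} [AddCommGroup W] [Module ℂ W] [FiniteDimensional ℂ W]
    (ρ : Representation ℂ G V) (σ : Representation ℂ G W) (h : ρ.character = σ.character) :
    Nonempty (ρ.Equiv σ) :=
  nonempty_equiv_of_char_eq_aux _ V W ρ σ rfl h

end Cfsg.Agent.CharLib.H2
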