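import Mathlib
import Cfsg.Prelude.Def_Characters
import Cfsg.Agent.CharLib.AvgComp
import Cfsg.Agent.CharLib.BrauerLin
import Cfsg.Agent.CharLib.ElemPow

set_option autoImplicit false

namespace Cfsg.Agent.CharLib.H2

open Module Representation Cfsg Cfsg.Agent.CharLib
open scoped ComplexConjugate

universe u v

theorem isElementary_zpowers {G : Type u} [Group G] [Finite G] (y : G) :
    ∃ p : ℕ, p.Prime ∧ IsElementary p (Subgroup.zpowers y) := by
  obtain ⟨p, hp1, hp⟩ := Nat.exists_infinite_primes (orderOf y + 1)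
  refine ⟨p, hp, ⟨y, Subgroup.mem_zpowers y⟩, ?_, ?_, 0, ?_⟩
  · rw [Subgroup.mem_center_iff]
    rintro ⟨g, hg⟩
    obtain ⟨i, rfl⟩ := Subgroup.mem_zpowers_iff.mp hg
    apply Subtype.ext
    change y ^ i * y = y * y ^ i
    rw [← zpow_add_one, ← zpow_one_add, add_comm]
  · rw [← Subgroup.orderOf_coe]
    change Nat.Coprime (orderOf y) p
    exact Nat.Coprime.symm ((Nat.Prime.coprime_iff_not_dvd hp).mpr
      (Nat.not_dvd_of_pos_of_lt (orderOf_pos y) (by omega)))
  · rw [pow_zero, Subgroup.index_eq_one, Subgroup.eq_top_iff']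
    rintro ⟨g, hg⟩
    obtain ⟨i, rfl⟩ := Subgroup.mem_zpowers_iff.mp hg
    exact Subgroup.mem_zpowers_iff.mpr ⟨i, Subtype.ext (by simp)⟩

theorem card_dvd_of_forall_pow_eq_one {A : Type*} [Group A] [Finite A] (m n : ℕ)
    (hcop : m.Coprime n) (hA : Nat.card A ∣ m * n) (h : ∀ a : A, a ^ m = 1) : Nat.card A ∣ m := by
  have h1 : Nat.Coprime (Nat.card A) n := by
    apply Nat.coprime_of_dvd
    intro q hq hqA hqn
    haveI : Fact q.Prime := ⟨hq⟩
    obtain ⟨a, ha⟩ := exists_prime_orderOf_dvd_card' q hqA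
    have h2 : q ∣ m := ha ▸ orderOf_dvd_of_pow_eq_one (h a)
    exact hq.one_lt.ne' (Nat.eq_one_of_dvd_coprimes hcop h2 hqn)
  exact h1.dvd_of_dvd_mul_right hA

/-- Brauer–Suzuki: a Hall subgroup controlling its own fusion and containing a conjugate of every
elementary subgroup of suitable order has a normal complement. -/
theorem hall_normal_complement {G : Type u} [Group G] [Fintype G] (H : Subgroup G)
    (hHall : Nat.Coprime (Nat.card H) H.index)
    (hfus : ∀ x ∈ H, ∀ y ∈ H, IsConj x y → ∃ h ∈ H, h * x * h⁻¹ = y)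
    (helem : ∀ (E : Subgroup G) (p : ℕ), p.Prime → IsElementary p E →
      Nat.card E ∣ Nat.card H → ∃ g : G, E.map (MulAut.conj g).toMonoidHom ≤ H) :
    ∃ K : Subgroup G, K.Normal ∧ K ⊔ H = ⊤ ∧ K ⊓ H = ⊥ := by
  classical
  letI : Fintype H := Fintype.ofFinite _
  have hmn : Nat.card H * H.index = Nat.card G := Subgroup.card_mul_index H
  obtain ⟨e, hen, hem⟩ := exists_crt_exponent _ _ hHall
  have hpow : ∀ x : G, (x ^ e) ^ (Nat.card H) = 1 := by
    intro x
    rw [← zpow_natCast, ← zpow_mul, ← orderOf_dvd_iff_zpow_eq_one]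
    refine (Int.natCast_dvd_natCast.mpr (orderOf_dvd_natCard x)).trans ?_
    rw [← hmn]
    push_cast
    rw [mul_comm]
    exact mul_dvd_mul hen dvd_rfl
  have hfix : ∀ x ∈ H, x ^ e = x := by
    intro x hx
    have h1 : x ^ (1 - e) = 1 := by
      rw [← orderOf_dvd_iff_zpow_eq_one]
      refine (Int.natCast_dvd_natCast.mpr ?_).trans hem
      have := orderOf_dvd_natCard (⟨x, hx⟩ : H)
      rwa [← Subgroup.orderOf_coe] at this
    rw [zpow_sub, zpow_one, mul_inv_eq_one] at h1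
    exact h1.symm
  have hex : ∀ x : G, ∃ g : G, g * x ^ e * g⁻¹ ∈ H := by
    intro x
    obtain ⟨p, hp, hE⟩ := isElementary_zpowers (x ^ e)
    have hcard : Nat.card (Subgroup.zpowers (x ^ e)) ∣ Nat.card H := by
      rw [Nat.card_zpowers]; exact orderOf_dvd_of_pow_eq_one (hpow x)
    obtain ⟨g, hg⟩ := helem _ p hp hE hcard
    exact ⟨g, hg ⟨x ^ e, Subgroup.mem_zpowers _, rfl⟩⟩
  choose c hc using hex
  let π : G → H := fun x => ⟨c x * x ^ e * (c x)⁻¹, hc x⟩
  have hwd : ∀ (θ : H → ℂ), IsClassFunction H θ → ∀ (x g : G) (hg : g * x ^ e * g⁻¹ ∈ H),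
      θ (π x) = θ ⟨g * x ^ e * g⁻¹, hg⟩ := by
    intro θ hθ x g hg
    have hconj : IsConj (c x * x ^ e * (c x)⁻¹) (g * x ^ e * g⁻¹) :=
      (isConj_iff.mpr ⟨c x, rfl⟩ : IsConj (x ^ e) _).symm.trans (isConj_iff.mpr ⟨g, rfl⟩)
    obtain ⟨h, hh, hh2⟩ := hfus _ (hc x) _ hg hconj
    have : (⟨g * x ^ e * g⁻¹, hg⟩ : H) = ⟨h, hh⟩ * π x * ⟨h, hh⟩⁻¹ := Subtype.ext hh2.symm
    rw [this, hθ]
  have h1 : ∀ θ : H → ℂ, IsCharacter H θ → IsGeneralizedCharacter G (fun x => θ (π x)) := by
    intro θ hθ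
    have hθcf := isClassFunction_of_char hθ
    apply brauer_characterization
    · intro x k
      have key : c (k * x * k⁻¹) * (k * x * k⁻¹) ^ e * (c (k * x * k⁻¹))⁻¹ =
          (c (k * x * k⁻¹) * k) * x ^ e * (c (k * x * k⁻¹) * k)⁻¹ := by
        rw [conj_zpow]; group
      have hmem : (c (k * x * k⁻¹) * k) * x ^ e * (c (k * x * k⁻¹) * k)⁻¹ ∈ H :=
        key ▸ hc (k * x * k⁻¹)
      change θ (π (k * x * k⁻¹)) = θ (π x)
      rw [hwd θ hθcf x _ hmem]
      congr 1
      exact Subtype.ext key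
    · intro E r hr hE
      obtain ⟨f, hf⟩ := exists_zpow_hom_of_isElementary hr hE _ _ hHall
        (hmn ▸ Subgroup.card_subgroup_dvd_card E) e hen hem
      have hE₁ : IsElementary r (f.range.map E.subtype) :=
        isElementary_of_mulEquiv _ _ (f.range.equivMapOfInjective E.subtype E.subtype_injective)
          (isElementary_subgroup hr hE f.range)
      have hcard : Nat.card (f.range.map E.subtype) ∣ Nat.card H := by
        apply card_dvd_of_forall_pow_eq_one _ _ hHall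
          (hmn ▸ Subgroup.card_subgroup_dvd_card _)
        rintro ⟨y, z, ⟨x, rfl⟩, rfl⟩
        apply Subtype.ext
        simp only [Subgroup.coe_pow, Subgroup.subtype_apply, OneMemClass.coe_one]
        rw [hf, Subgroup.coe_zpow]
        exact hpow x
      obtain ⟨g, hg⟩ := helem _ r hr hE₁ hcard
      have hmemH : ∀ x : E, g * (x : G) ^ e * g⁻¹ ∈ H := by
        intro x
        have : g * ((f x : E) : G) * g⁻¹ ∈ H := hg ⟨(f x : G), ⟨f x, ⟨x, rfl⟩, rfl⟩, rfl⟩
        rwa [hf, Subgroup.coe_zpow] at this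
      let φ : E →* H := ((MulAut.conj g).toMonoidHom.comp (E.subtype.comp f)).codRestrict H
        (fun x => by
          have := hmemH x
          simp only [MonoidHom.coe_comp, Function.comp_apply, Subgroup.subtype_apply,
            MulEquiv.coe_toMonoidHom, MulAut.conj_apply, hf, Subgroup.coe_zpow]
          exact this)
      have heq : (fun x : E => θ (π x)) = fun x => θ (φ x) := by
        funext x
        rw [hwd θ hθcf x g (hmemH x)]
        congr 1
        apply Subtype.ext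
        simp [φ, hf]
      rw [heq]
      exact ⟨_, 0, isCharacter_comp hθ φ, isCharacter_zero, by simp⟩
  have h2 : ∀ h : H, ∃ x : G, IsConj h (π x) := by
    intro h
    refine ⟨h, ?_⟩
    have hconj : IsConj (h : G) (c h * (h : G) ^ e * (c h)⁻¹) := by
      rw [hfix h h.2]
      exact isConj_iff.mpr ⟨c h, rfl⟩
    obtain ⟨k, hk, hk2⟩ := hfus _ h.2 _ (hc h) hconj
    exact isConj_iff.mpr ⟨⟨k, hk⟩, Subtype.ext hk2⟩
  have h3 : π 1 = 1 := Subtype.ext (by simp [π])
  obtain ⟨K, hKn, hKmem, hKcard⟩ := exists_normal_of_comp π h1 h2 h3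
  have hdisj : K ⊓ H = ⊥ := by
    rw [eq_bot_iff]
    rintro x ⟨hxK, hxH⟩
    have h4 := congrArg (fun y : H => (y : G)) ((hKmem x).mp hxK)
    simp only [π, OneMemClass.coe_one, hfix x hxH] at h4
    rw [Subgroup.mem_bot]
    exact conj_eq_one_iff.mp h4
  refine ⟨K, hKn, ?_, hdisj⟩
  exact (Subgroup.isComplement'_of_card_mul_and_disjoint hKcard
    (disjoint_iff.mpr hdisj)).sup_eq_top

end Cfsg.Agent.CharLib.H2
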