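import Mathlib
import Cfsg.Prelude.Def_Blocks
import Cfsg.Agent.CharLib.Sub
import Cfsg.Agent.CharLib.L.AbelianIndex
import Cfsg.Agent.H6.LinChar
import Cfsg.Agent.BlockLib.LocalRing

set_option autoImplicit false

namespace Cfsg.Agent.CharLib.H2

open Module Representation Cfsg Cfsg.Agent.CharLib Cfsg.Agent.BlockLib
open scoped ComplexConjugate

universe u v

/-- `χ (a y) ≡ χ y` modulo the local ideal, for a `p`-element `a` commuting with `y`. -/
theorem memLocalIdeal_char_mul_sub {p : ℕ} {M : Ideal AlgInt} (hM : IsPModular p M)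
    {G : Type u} [Group G] [Finite G] {χ : G → ℂ} (hχ : IsCharacter G χ) {a y : G}
    (hc : Commute a y) {k : ℕ} (ha : a ^ (p ^ k) = 1) : MemLocalIdeal M (χ (a * y) - χ y) := by
  classical
  haveI := isPrime_of_isPModular hM
  have hMt := ne_top_of_isPModular hM
  set T : Subgroup G := Subgroup.closure {a, y} with hT
  letI : Fintype T := Fintype.ofFinite _
  have hcomm0 : ∀ u ∈ ({a, y} : Set G), ∀ v ∈ ({a, y} : Set G), u * v = v * u := by
    intro u hu v hv
    simp only [Set.mem_insert_iff, Set.mem_singleton_iff] at hu hv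
    rcases hu with rfl | rfl <;> rcases hv with rfl | rfl
    · rfl
    · exact hc
    · exact hc.symm
    · rfl
  have hcomm : ∀ u v : T, u * v = v * u :=
    (Subgroup.closureCommGroupOfComm hcomm0).mul_comm
  have haT : a ∈ T := Subgroup.subset_closure (by simp)
  have hyT : y ∈ T := Subgroup.subset_closure (by simp)
  obtain ⟨m, hm, -⟩ := exists_mult (isCharacter_restrict hχ T)
  have e1 : ∀ t : T, χ t = ∑ ψ : IrrCharacter T, (m ψ : ℂ) * (ψ : T → ℂ) t := by
    intro t
    have := congrFun hm t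
    simpa using this
  have e2 : χ (a * y) - χ y = ∑ ψ : IrrCharacter T, (m ψ : ℂ) *
      ((ψ : T → ℂ) ⟨y, hyT⟩ * ((ψ : T → ℂ) ⟨a, haT⟩ - 1)) := by
    have h1 := e1 (⟨a, haT⟩ * ⟨y, hyT⟩)
    have h2 := e1 ⟨y, hyT⟩
    simp only [Subgroup.coe_mul] at h1 h2
    rw [h1, h2, ← Finset.sum_sub_distrib]
    refine Finset.sum_congr rfl fun ψ _ => ?_
    rw [Cfsg.Agent.H6.linChar_mul (ψ : T → ℂ)
      ⟨isCharacter_of_irr ψ.2, L.irr_apply_one_of_comm hcomm ψ⟩]
    ring
  rw [e2]
  apply memLocalIdeal_sum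
  intro ψ _
  apply memLocalIdeal_mul_left (memLocalRing_natCast hMt _)
  apply memLocalIdeal_mul_left
    (memLocalRing_of_isIntegral hMt (isCharacter_isIntegral (isCharacter_of_irr ψ.2) _))
  apply memLocalIdeal_sub_one_of_pow_eq_one hM (k := k)
  have hlin : IsCharacter T (ψ : T → ℂ) ∧ (ψ : T → ℂ) 1 = 1 :=
    ⟨isCharacter_of_irr ψ.2, L.irr_apply_one_of_comm hcomm ψ⟩
  have h3 : (Cfsg.Agent.H6.linCharHom (ψ : T → ℂ) hlin ⟨a, haT⟩) ^ (p ^ k) = 1 := by
    rw [← map_pow]
    have : (⟨a, haT⟩ : T) ^ (p ^ k) = 1 := Subtype.ext (by simpa using ha)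
    rw [this, map_one]
  have h4 := congrArg (fun u : ℂˣ => (u : ℂ)) h3
  simpa using h4

end Cfsg.Agent.CharLib.H2
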